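import Cfsg.Agent.Dickson.Matrix
import Cfsg.Agent.CharTwo.SymmetricForm

/-!
# Classes of involutions of orthogonal groups in characteristic two

An involution `t` is determined up to conjugacy by the rank of `t + 1` and by whether `Q` vanishes on the
image of `t + 1`.  The counting theorems `card_orth` and `card_omega` take the existence of representatives
as hypotheses; `exists_involution` constructs them.
-/

set_option autoImplicit false
set_option linter.unusedSectionVars false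

namespace CfsgLib.CharTwoClasses

open Module QuadraticMap CfsgLib.Dickson

/-- Count conjugacy classes through representatives. -/
theorem natCard_classes {G H L : Type*} [Group G] [Group H] [Fintype L] (e : G ≃* H) (r : L → H)
    (hr : ∀ a, orderOf (r a) = 2) (hinj : ∀ a b, IsConj (r a) (r b) → a = b)
    (hsurj : ∀ g : H, orderOf g = 2 → ∃ a, IsConj g (r a)) :
    Nat.card {C : ConjClasses G // ∃ g : G, ConjClasses.mk g = C ∧ orderOf g = 2} = Fintype.card L := by
  have hiff : ∀ {x y : G}, IsConj x y ↔ IsConj (e x) (e y) := fun {x y} =>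
    ⟨fun h => MonoidHom.map_isConj e.toMonoidHom h, fun h => by
      simpa using MonoidHom.map_isConj e.symm.toMonoidHom h⟩
  rw [← Nat.card_eq_fintype_card]
  symm
  refine Nat.card_congr (Equiv.ofBijective
    (fun a => ⟨ConjClasses.mk (e.symm (r a)), _, rfl, by rw [MulEquiv.orderOf_eq]; exact hr a⟩)
    ⟨fun a b h => ?_, ?_⟩)
  · have h' := hiff.1 (ConjClasses.mk_eq_mk_iff_isConj.1 (congrArg Subtype.val h))
    rw [e.apply_symm_apply, e.apply_symm_apply] at h'
    exact hinj a b h'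
  · rintro ⟨C, g, rfl, hg⟩
    obtain ⟨a, ha⟩ := hsurj (e g) (by rw [MulEquiv.orderOf_eq]; exact hg)
    refine ⟨a, Subtype.ext (ConjClasses.mk_eq_mk_iff_isConj.2 (hiff.2 ?_))⟩
    rw [e.apply_symm_apply]
    exact ha.symm

variable {F V : Type*} [Field F] [CharP F 2] [AddCommGroup V] [Module F V] [FiniteDimensional F V]
  {Q : QuadraticForm F V}

/-- The rank of `t + 1`. -/
noncomputable def rk (t : orth Q) : ℕ := finrank F (LinearMap.range (disp t))

/-- `Q` vanishes on the image of `t + 1`. -/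
def Alt (t : orth Q) : Prop := ∀ v, Q (disp t v) = 0

theorem disp_comm_conj {g t s : orth Q} (h : g * t * g⁻¹ = s) (v : V) :
    (g : V ≃ₗ[F] V) (disp t v) = disp s ((g : V ≃ₗ[F] V) v) := by
  rw [disp_apply, disp_apply, map_add, ← mul_apply, ← mul_apply, ← h, inv_mul_cancel_right]

theorem range_conj {g t s : orth Q} (h : g * t * g⁻¹ = s) :
    (LinearMap.range (disp t)).map ((g : V ≃ₗ[F] V) : V →ₗ[F] V) = LinearMap.range (disp s) := by
  apply le_antisymm
  · rintro _ ⟨_, ⟨u, rfl⟩, rfl⟩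
    exact ⟨_, (disp_comm_conj h u).symm⟩
  · rintro _ ⟨u, rfl⟩
    obtain ⟨u, rfl⟩ := (g : V ≃ₗ[F] V).surjective u
    exact ⟨_, LinearMap.mem_range_self _ u, disp_comm_conj h u⟩

theorem inv_of_isConj {t s : orth Q} (h : IsConj t s) : rk t = rk s ∧ (Alt t ↔ Alt s) := by
  obtain ⟨g, hg⟩ := isConj_iff.1 h
  refine ⟨?_, ⟨fun ha v => ?_, fun ha v => ?_⟩⟩
  · rw [rk, rk, ← range_conj hg, LinearEquiv.finrank_map_eq (g : V ≃ₗ[F] V)]
  · obtain ⟨v, rfl⟩ := (g : V ≃ₗ[F] V).surjective v
    rw [← disp_comm_conj hg, g.2]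
    exact ha v
  · rw [← g.2, disp_comm_conj hg]
    exact ha _

theorem two_rk_le {t : orth Q} (ht : t * t = 1) : 2 * rk t ≤ finrank F V := by
  have h := LinearMap.finrank_range_add_finrank_ker (disp t)
  have hle : LinearMap.range (disp t) ≤ LinearMap.ker (disp t) := by
    rintro _ ⟨u, rfl⟩; exact disp_disp ht u
  have := Submodule.finrank_mono hle
  unfold rk
  omega

theorem rk_eq_zero_iff {t : orth Q} : rk t = 0 ↔ t = 1 := by
  constructor
  · intro h
    refine Subtype.ext (LinearEquiv.ext fun v => ?_)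
    have h' := LinearMap.mem_range_self (disp t) v
    rw [Submodule.finrank_eq_zero.1 h, Submodule.mem_bot, disp_apply, add_eq_zero_iff (F := F)] at h'
    exact h'
  · rintro rfl
    have : disp (1 : orth Q) = 0 := LinearMap.ext fun v => add_self (F := F) v
    rw [rk, this, LinearMap.range_zero, finrank_bot]

theorem orderOf_eq_two_iff {G : Type*} [Group G] {t : G} : orderOf t = 2 ↔ t * t = 1 ∧ t ≠ 1 := by
  haveI : Fact (Nat.Prime 2) := ⟨Nat.prime_two⟩
  rw [orderOf_eq_prime_iff, pow_two]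

theorem orderOf_two_iff_rk {t : orth Q} : orderOf t = 2 ↔ t * t = 1 ∧ 1 ≤ rk t := by
  rw [orderOf_eq_two_iff, Nat.one_le_iff_ne_zero, Ne, Ne, rk_eq_zero_iff (t := t)]

theorem exists_induced (hQ : (polarBilin Q).Nondegenerate) {t : orth Q} (ht : t * t = 1) :
    ∃ B : LinearMap.range (disp t) →ₗ[F] LinearMap.range (disp t) →ₗ[F] F,
      (∀ u v, B ⟨_, LinearMap.mem_range_self (disp t) u⟩ ⟨_, LinearMap.mem_range_self (disp t) v⟩ =
        polar Q u (disp t v)) ∧
      (∀ x y, B x y = B y x) ∧ (∀ x, (∀ y, B x y = 0) → x = 0) ∧ ∀ x, B x x = Q (x : V) := by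
  set N := disp t with hN
  obtain ⟨sec, hsec⟩ := N.rangeRestrict.exists_rightInverse_of_surjective N.range_rangeRestrict
  have hsec' : ∀ x, N (sec x) = x.1 := fun x => congrArg Subtype.val (LinearMap.congr_fun hsec x)
  have hsa : ∀ u v, polar Q (N u) v = polar Q u (N v) := fun u v => polar_disp_left ht u v
  let B : LinearMap.range N →ₗ[F] LinearMap.range N →ₗ[F] F :=
    (polarBilin Q).compl₁₂ sec (LinearMap.range N).subtype
  have hB : ∀ u v, B ⟨_, LinearMap.mem_range_self N u⟩ ⟨_, LinearMap.mem_range_self N v⟩ =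
      polar Q u (N v) := fun u v => by
    show polar Q (sec ⟨_, LinearMap.mem_range_self N u⟩) (N v) = _
    rw [← hsa, hsec', hsa]
  refine ⟨B, hB, ?_, ?_, ?_⟩
  · rintro ⟨_, u, rfl⟩ ⟨_, v, rfl⟩
    rw [hB, hB, ← hsa, polar_comm]
  · rintro ⟨_, u, rfl⟩ hx
    refine Subtype.ext (hQ.1 _ fun v => ?_)
    show polar Q (N u) v = 0
    rw [hsa, ← hB]
    exact hx _
  · rintro ⟨_, u, rfl⟩
    rw [hB]
    exact (map_disp t u).symm

theorem even_rk (hQ : (polarBilin Q).Nondegenerate) {t : orth Q} (ht : t * t = 1) (ha : Alt t) :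
    Even (rk t) := by
  obtain ⟨B, -, -, hBn, hBq⟩ := exists_induced hQ ht
  refine CfsgLib.CharTwo.even_finrank_of_isAlt _ B rfl (fun x => ?_) hBn
  rw [hBq]
  obtain ⟨_, u, rfl⟩ := x
  exact ha u

/-- Involutions with the same rank and type are conjugate. -/
theorem isConj_of_inv [Finite F] (hQ : (polarBilin Q).Nondegenerate) {t s : orth Q} (ht : t * t = 1)
    (hs : s * s = 1) (hr : rk t = rk s) (halt : Alt t ↔ Alt s) : IsConj t s := by
  have hsq : ∀ d : F, ∃ e, e * e = d := fun d =>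
    haveI : Fact (Nat.Prime 2) := ⟨Nat.prime_two⟩
    ⟨(frobeniusEquiv F 2).symm d, by rw [← pow_two]; exact frobeniusEquiv_symm_pow_p (R := F) 2 d⟩
  obtain ⟨B, hB, hBs, hBn, hBq⟩ := exists_induced hQ ht
  obtain ⟨C, hC, hCs, hCn, hCq⟩ := exists_induced hQ hs
  have hBalt : (∀ x, B x x = 0) ↔ Alt t := by
    refine ⟨fun h v => ?_, fun h x => ?_⟩
    · have := h ⟨_, LinearMap.mem_range_self _ v⟩
      rwa [hBq] at this
    · rw [hBq]; obtain ⟨_, u, rfl⟩ := x; exact h u
  have hCalt : (∀ x, C x x = 0) ↔ Alt s := by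
    refine ⟨fun h v => ?_, fun h x => ?_⟩
    · have := h ⟨_, LinearMap.mem_range_self _ v⟩
      rwa [hCq] at this
    · rw [hCq]; obtain ⟨_, u, rfl⟩ := x; exact h u
  obtain ⟨φ, hφ⟩ := CfsgLib.CharTwo.exists_isometry_of_symm hsq B C hBs hCs hBn hCn hr
    (by rw [hBalt, hCalt]; exact halt)
  obtain ⟨g, hg, hgφ⟩ := CfsgLib.Forms.witt_quadratic Q hQ _ _ φ (fun x => by rw [← hCq, ← hBq, hφ])
  refine isConj_iff.2 ⟨⟨g, hg⟩, mul_inv_eq_iff_eq_mul.2 (Subtype.ext (LinearEquiv.ext fun u => ?_))⟩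
  rw [mul_apply, mul_apply]
  have hgN : g (disp t u) = disp s (g u) := by
    rw [← sub_eq_zero]
    refine hQ.1 _ fun z => ?_
    show polar Q (g (disp t u) - disp s (g u)) z = 0
    rw [QuadraticMap.polar_sub_left, sub_eq_zero, polar_disp_left hs (g u) z]
    obtain ⟨⟨_, z₀, rfl⟩, hz₀⟩ := φ.surjective ⟨_, LinearMap.mem_range_self (disp s) z⟩
    obtain ⟨u', hu'⟩ := (φ ⟨_, LinearMap.mem_range_self (disp t) u⟩).2
    have e1 : g (disp t z₀) = disp s z := by
      rw [hgφ ⟨_, LinearMap.mem_range_self (disp t) z₀⟩, hz₀]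
    have e2 : g (disp t u) = disp s u' := by
      rw [hgφ ⟨_, LinearMap.mem_range_self (disp t) u⟩, hu']
    have e3 : polar Q u' (disp s z) = polar Q u (disp t z₀) := by
      rw [← hC, ← hB, ← hφ, hz₀,
        show φ ⟨_, LinearMap.mem_range_self (disp t) u⟩ =
          (⟨_, LinearMap.mem_range_self (disp s) u'⟩ : LinearMap.range (disp s)) from Subtype.ext hu'.symm]
    rw [e2, polar_disp_left hs, e3, ← e1]
    exact (polar_map (⟨g, hg⟩ : orth Q) u (disp t z₀)).symm
  rw [disp_apply, disp_apply, map_add] at hgN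
  exact add_right_cancel hgN

/-- The involution attached to an orthogonal independent family with an involution on its index set. -/
theorem exists_involution (hQ : (polarBilin Q).Nondegenerate) {ι : Type*} [Fintype ι] [DecidableEq ι]
    (σ : ι → ι) (hσ : ∀ i, σ (σ i) = i) (x : ι → V) (hx : LinearIndependent F x)
    (horth : ∀ i j, polar Q (x i) (x j) = 0) (hQx : ∀ i, Q (x i) = if σ i = i then 1 else 0) :
    ∃ t : orth Q, t * t = 1 ∧ rk t = Fintype.card ι ∧ (Alt t ↔ ∀ i, σ i ≠ i) := by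
  let N : V →ₗ[F] V := ∑ i, (polarBilin Q (x i)).smulRight (x (σ i))
  have hN : ∀ v, N v = ∑ i, polar Q (x i) v • x (σ i) := fun v => by simp [N]
  have hNN : ∀ v, N (N v) = 0 := fun v => by
    rw [hN (N v)]
    refine Finset.sum_eq_zero fun i _ => ?_
    have : polarBilin Q (x i) (N v) = 0 := by
      rw [hN, map_sum]
      exact Finset.sum_eq_zero fun j _ => by
        rw [map_smul, QuadraticMap.polarBilin_apply_apply, horth, smul_zero]
    rw [show polar Q (x i) (N v) = 0 from this, zero_smul]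
  have hσp : ∀ (f : ι → F), ∑ i, f (σ i) = ∑ i, f i := fun f =>
    Function.Bijective.sum_comp (Function.Involutive.bijective hσ) f
  have hQc : ∀ c : ι → F, Q (∑ i, c i • x i) = ∑ i, c i ^ 2 * Q (x i) := by
    intro c
    refine Finset.induction_on (motive := fun S => Q (∑ i ∈ S, c i • x i) = ∑ i ∈ S, c i ^ 2 * Q (x i))
      Finset.univ (by simp) ?_
    intro a S ha ih
    rw [Finset.sum_insert ha, Finset.sum_insert ha, map_add_eq, ih, QuadraticMap.map_smul,
      show polar Q (c a • x a) (∑ i ∈ S, c i • x i) = polarBilin Q (c a • x a) (∑ i ∈ S, c i • x i) from rfl,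
      map_sum]
    rw [Finset.sum_eq_zero (s := S) (f := fun i => polarBilin Q (c a • x a) (c i • x i)) fun i _ => by
      simp [horth], add_zero, smul_eq_mul, pow_two]
  have hiso : ∀ v, Q (v + N v) = Q v := fun v => by
    rw [map_add_eq]
    have h1 : Q (N v) = ∑ i, polar Q (x i) v ^ 2 * Q (x i) := by
      rw [hN, ← Function.Bijective.sum_comp (Function.Involutive.bijective hσ)
        (fun i => polar Q (x i) v • x (σ i))]
      simp only [hσ]
      rw [hQc, ← hσp]
      refine Finset.sum_congr rfl fun i _ => ?_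
      rw [hσ, hQx, hQx, hσ]
      by_cases h : σ i = i
      · rw [if_pos h, if_pos h.symm]
      · rw [if_neg h, if_neg (Ne.symm h)]
    have h2 : polar Q v (N v) = ∑ i, polar Q (x i) v * polar Q (x (σ i)) v := by
      rw [show polar Q v (N v) = polarBilin Q v (N v) from rfl, hN, map_sum]
      refine Finset.sum_congr rfl fun i _ => ?_
      rw [map_smul, smul_eq_mul, QuadraticMap.polarBilin_apply_apply, polar_comm Q v]
    rw [h1, h2, add_assoc, ← Finset.sum_add_distrib, add_eq_left]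
    refine Finset.sum_involution (fun i _ => σ i) (fun i _ => ?_) (fun i _ hne => ?_)
      (fun i _ => Finset.mem_univ _) (fun i _ => hσ i)
    · simp only [hQx, hσ]
      by_cases h : σ i = i
      · simp only [h, if_true, mul_one, ← pow_two, CharTwo.add_self_eq_zero]
      · rw [if_neg h, if_neg (Ne.symm h), mul_zero, mul_zero, zero_add, zero_add, mul_comm,
          CharTwo.add_self_eq_zero]
    · intro h
      apply hne
      simp only [hQx, h, if_true, mul_one, ← pow_two, CharTwo.add_self_eq_zero]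
  let e : V ≃ₗ[F] V := LinearEquiv.ofInvolutive (LinearMap.id + N) (fun v => by
    simp only [LinearMap.add_apply, LinearMap.id_apply, map_add, hNN, add_zero]
    rw [add_assoc, add_self (F := F), add_zero])
  have he : ∀ v, e v = v + N v := fun v => rfl
  let t : orth Q := ⟨e, fun v => by rw [he]; exact hiso v⟩
  have hd : ∀ v, disp t v = N v := fun v => by
    rw [disp_apply, show (t : V ≃ₗ[F] V) v = v + N v from rfl, add_comm v, add_assoc, add_self (F := F),
      add_zero]
  have hrange : LinearMap.range (disp t) = Submodule.span F (Set.range x) := by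
    apply le_antisymm
    · rintro _ ⟨v, rfl⟩
      rw [hd, hN]
      exact Submodule.sum_mem _ fun i _ => Submodule.smul_mem _ _ (Submodule.subset_span ⟨σ i, rfl⟩)
    · rw [Submodule.span_le]
      rintro _ ⟨j, rfl⟩
      obtain ⟨Φ, hΦ⟩ := LinearMap.exists_extend
        ((Finsupp.lapply (σ j)).comp hx.repr : Submodule.span F (Set.range x) →ₗ[F] F)
      obtain ⟨k, hk⟩ := polar_surjective hQ Φ
      refine ⟨k, ?_⟩
      have hk' : ∀ i, polar Q (x i) k = if i = σ j then 1 else 0 := fun i => by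
        rw [polar_comm, hk]
        have hi : x i ∈ Submodule.span F (Set.range x) := Submodule.subset_span ⟨i, rfl⟩
        have := LinearMap.congr_fun hΦ ⟨x i, hi⟩
        rw [LinearMap.comp_apply, Submodule.coe_subtype] at this
        rw [this, LinearMap.comp_apply, hx.repr_eq_single i _ rfl, Finsupp.lapply_apply,
          Finsupp.single_apply]
      rw [hd, hN]
      simp only [hk', ite_smul, one_smul, zero_smul, Finset.sum_ite_eq', Finset.mem_univ, if_true, hσ]
  refine ⟨t, ?_, ?_, ?_⟩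
  · refine Subtype.ext (LinearEquiv.ext fun v => ?_)
    rw [mul_apply]
    show e (e v) = v
    rw [he, he, map_add, hNN, add_zero, add_assoc, add_self (F := F), add_zero]
  · rw [rk, hrange, finrank_span_eq_card hx]
  · constructor
    · intro ha i hi
      have hxi : x i ∈ LinearMap.range (disp t) := by rw [hrange]; exact Submodule.subset_span ⟨i, rfl⟩
      obtain ⟨v, hv⟩ := hxi
      have h := ha v
      rw [hv, hQx, if_pos hi] at h
      exact one_ne_zero h
    · intro h v
      have hv : disp t v ∈ Submodule.span F (Set.range x) := by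
        rw [← hrange]; exact LinearMap.mem_range_self _ v
      obtain ⟨c, hc⟩ := (Submodule.mem_span_range_iff_exists_fun F).1 hv
      rw [← hc, hQc]
      exact Finset.sum_eq_zero fun i _ => by rw [hQx, if_neg (h i), mul_zero]

theorem finrank_singular_le (hQ : (polarBilin Q).Nondegenerate) (W : Submodule F V)
    (hW : ∀ v ∈ W, Q v = 0) : 2 * finrank F W ≤ finrank F V := by
  have hle : W ≤ LinearMap.BilinForm.orthogonal (polarBilin Q) W := fun w hw d hd => by
    show polar Q d w = 0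
    simp [polar, hW _ hd, hW _ hw, hW _ (W.add_mem hd hw)]
  have h := Submodule.finrank_mono hle
  rw [LinearMap.BilinForm.finrank_orthogonal hQ] at h
  have := W.finrank_le
  omega

section count

variable [Finite F] (hQ : (polarBilin Q).Nondegenerate) {m a : ℕ} (hdim : finrank F V = 2 * m)
  (hN : ∀ k < m, ∃ t : orth Q, t * t = 1 ∧ rk t = k + 1 ∧ ¬ Alt t)
  (hA : ∀ k < a, ∃ t : orth Q, t * t = 1 ∧ rk t = 2 * (k + 1) ∧ Alt t)
  (hbound : ∀ t : orth Q, t * t = 1 → Alt t → rk t / 2 ≤ a)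

include hQ hdim hN hA hbound in
/-- Number of classes of involutions of the orthogonal group. -/
theorem card_orth {G : Type*} [Group G] (e : G ≃* orth Q) :
    Nat.card {C : ConjClasses G // ∃ g : G, ConjClasses.mk g = C ∧ orderOf g = 2} = m + a := by
  choose tN hN1 hN2 hN3 using hN
  choose tA hA1 hA2 hA3 using hA
  let r : Fin m ⊕ Fin a → orth Q := Sum.elim (fun k => tN k k.2) (fun k => tA k k.2)
  rw [natCard_classes e r ?_ ?_ ?_]
  · simp
  · rintro (k | k) <;> rw [orderOf_two_iff_rk]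
    · exact ⟨hN1 k k.2, by simp [r, hN2]⟩
    · exact ⟨hA1 k k.2, by simp [r, hA2]; omega⟩
  · intro i j h
    obtain ⟨h1, h2⟩ := inv_of_isConj h
    rcases i with i | i <;> rcases j with j | j <;> simp only [r, Sum.elim_inl, Sum.elim_inr] at h1 h2
    · rw [hN2, hN2] at h1; exact congrArg Sum.inl (Fin.ext (by omega))
    · exact absurd (h2.2 (hA3 _ _)) (hN3 _ _)
    · exact absurd (h2.1 (hA3 _ _)) (hN3 _ _)
    · rw [hA2, hA2] at h1; exact congrArg Sum.inr (Fin.ext (by omega))
  · intro g hg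
    obtain ⟨hg2, hg1⟩ := orderOf_two_iff_rk.1 hg
    have hle := two_rk_le hg2
    by_cases ha : Alt g
    · obtain ⟨k, hk⟩ := even_rk hQ hg2 ha
      have := hbound g hg2 ha
      refine ⟨.inr ⟨k - 1, by omega⟩, isConj_of_inv hQ hg2 (hA1 _ _) ?_ ⟨fun _ => hA3 _ _, fun _ => ha⟩⟩
      simp only [r, Sum.elim_inr, hA2]
      omega
    · refine ⟨.inl ⟨rk g - 1, by omega⟩, isConj_of_inv hQ hg2 (hN1 _ _) ?_
        ⟨fun h => absurd h ha, fun h => absurd h (hN3 _ _)⟩⟩
      simp only [r, Sum.elim_inl, hN2]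
      omega

include hQ hdim hN hA hbound in
/-- Number of classes of involutions of the commutator subgroup of the orthogonal group. -/
theorem card_omega (hG : ReflGen Q) (hpos : 1 ≤ m) {ε : ℕ}
    (hε : (ε = 1 ∧ Even m ∧ a = m / 2) ∨ (ε = 0 ∧ ∀ t : orth Q, t * t = 1 → Alt t → rk t ≠ m))
    {G : Type*} [Group G] (e : G ≃* ↥(commutator (orth Q))) :
    Nat.card {C : ConjClasses G // ∃ g : G, ConjClasses.mk g = C ∧ orderOf g = 2} = m / 2 + (a + ε) := by
  have hV : 0 < finrank F V := by omega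
  have hmem : ∀ t : orth Q, t ∈ commutator (orth Q) ↔ Even (rk t) := fun t =>
    (mem_commutator_iff' hQ hG hV t).trans ((ZMod.natCast_eq_zero_iff_even))
  obtain ⟨x₁, hx₁⟩ : ∃ x, Q x = 1 := by
    obtain ⟨t, ht, htr, hta⟩ := hN 0 hpos
    obtain ⟨v, hv⟩ := not_forall.1 hta
    obtain ⟨c, hc⟩ := exists_scaled hv
    exact ⟨_, hc⟩
  have hε1 : ∀ k : Fin ε, m / 2 - 1 < a ∧ 2 * (m / 2 - 1 + 1) = m := fun k => by
    rcases hε with ⟨-, ⟨l, hl⟩, rfl⟩ | ⟨rfl, -⟩
    · omega
    · exact absurd k.2 (by omega)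
  choose tN hN1 hN2 hN3 using hN
  choose tA hA1 hA2 hA3 using hA
  let r₀ : Fin (m / 2) ⊕ (Fin a ⊕ Fin ε) → orth Q :=
    Sum.elim (fun k => tN (2 * k + 1) (by omega))
      (Sum.elim (fun k => tA k k.2)
        (fun k => refl x₁ hx₁ * tA (m / 2 - 1) (hε1 k).1 * (refl x₁ hx₁)⁻¹))
  have hconj : ∀ {t s : orth Q}, IsConj t s → s * s = 1 → t * t = 1 := by
    intro t s h hs
    obtain ⟨g, hg⟩ := isConj_iff.1 h
    rw [← hg] at hs
    simpa using (show g * (t * t) * g⁻¹ = 1 by rw [← hs]; group)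
  have hext : ∀ k : Fin ε, IsConj (r₀ (.inr (.inr k))) (tA (m / 2 - 1) (hε1 k).1) := fun k =>
    (isConj_iff.2 ⟨_, rfl⟩ : IsConj (tA (m / 2 - 1) (hε1 k).1) (r₀ (.inr (.inr k)))).symm
  have hprop : ∀ i, r₀ i * r₀ i = 1 ∧ 1 ≤ rk (r₀ i) ∧ Even (rk (r₀ i)) := by
    rintro (k | k | k)
    · refine ⟨hN1 _ _, ?_⟩
      simp only [r₀, Sum.elim_inl, hN2]
      exact ⟨by omega, ⟨k + 1, by omega⟩⟩
    · refine ⟨hA1 _ _, ?_⟩
      simp only [r₀, Sum.elim_inl, Sum.elim_inr, hA2]
      exact ⟨by omega, even_two_mul _⟩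
    · refine ⟨hconj (hext k) (hA1 _ _), ?_⟩
      rw [(inv_of_isConj (hext k)).1, hA2]
      exact ⟨by omega, even_two_mul _⟩
  let r : Fin (m / 2) ⊕ (Fin a ⊕ Fin ε) → ↥(commutator (orth Q)) := fun i =>
    ⟨r₀ i, (hmem _).2 (hprop i).2.2⟩
  have hodd : ∀ k : Fin ε, ∀ g : orth Q, g * tA (m / 2 - 1) (hε1 k).1 * g⁻¹ = tA (m / 2 - 1) (hε1 k).1 →
      parity g = 0 := by
    intro k g hg
    have hlag : IsLag Q m (LinearMap.range (disp (tA (m / 2 - 1) (hε1 k).1))) :=
      ⟨(hA2 _ _).trans (hε1 k).2, fun v hv => by obtain ⟨u, rfl⟩ := hv; exact hA3 _ _ u⟩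
    have h := finrank_inf_map_lag' hQ hG hdim hlag g
    rw [range_conj hg, inf_idem, hlag.1] at h
    exact add_eq_left.1 h.symm
  have hsplit : ∀ (k : Fin ε) {g : orth Q}, IsConj (tA (m / 2 - 1) (hε1 k).1) g →
      (∃ c ∈ commutator (orth Q), c * g * c⁻¹ = tA (m / 2 - 1) (hε1 k).1) ∨
        ∃ c ∈ commutator (orth Q), c * g * c⁻¹ = r₀ (.inr (.inr k)) := by
    intro k g h
    obtain ⟨c, hc⟩ := isConj_iff.1 h.symm
    by_cases hp : parity c = 0
    · exact Or.inl ⟨c, (mem_commutator_iff' hQ hG hV c).2 hp, hc⟩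
    · refine Or.inr ⟨refl x₁ hx₁ * c, (mem_commutator_iff' hQ hG hV _).2 ?_, ?_⟩
      · rw [parity_mul' hQ hG, parity_refl hQ]
        revert hp
        generalize parity c = p
        revert p; decide
      · show _ = refl x₁ hx₁ * tA (m / 2 - 1) _ * (refl x₁ hx₁)⁻¹
        rw [← hc]; group
  have hsub : ∀ {t s : ↥(commutator (orth Q))}, IsConj t s ↔
      ∃ c ∈ commutator (orth Q), c * (t : orth Q) * c⁻¹ = s := fun {t s} => by
    rw [isConj_iff]
    exact ⟨fun ⟨c, h⟩ => ⟨c, c.2, congrArg Subtype.val h⟩,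
      fun ⟨c, hc, h⟩ => ⟨⟨c, hc⟩, Subtype.ext h⟩⟩
  rw [natCard_classes e r ?_ ?_ ?_]
  · simp
  · intro i
    rw [← Subgroup.orderOf_coe, orderOf_two_iff_rk]
    exact ⟨(hprop i).1, (hprop i).2.1⟩
  · intro i j h
    obtain ⟨c, hc, hcij⟩ := hsub.1 h
    obtain ⟨h1, h2⟩ := inv_of_isConj (isConj_iff.2 ⟨c, hcij⟩)
    change rk (r₀ i) = rk (r₀ j) at h1
    change Alt (r₀ i) ↔ Alt (r₀ j) at h2
    change c * r₀ i * c⁻¹ = r₀ j at hcij
    have hAlt : ∀ k : Fin a ⊕ Fin ε, Alt (r₀ (.inr k)) := by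
      rintro (k | k)
      · exact hA3 _ _
      · exact (inv_of_isConj (hext k)).2.2 (hA3 _ _)
    rcases i with i | i <;> rcases j with j | j
    · simp only [r₀, Sum.elim_inl, hN2] at h1; exact congrArg Sum.inl (Fin.ext (by omega))
    · exact absurd (h2.2 (hAlt j)) (hN3 _ _)
    · exact absurd (h2.1 (hAlt i)) (hN3 _ _)
    have hno : ∀ (k : Fin ε) (l : Fin a), (l : ℕ) = m / 2 - 1 → ∀ c ∈ commutator (orth Q),
        c * r₀ (.inr (.inl l)) * c⁻¹ ≠ r₀ (.inr (.inr k)) := by
      intro k l hl c hc heq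
      have hl' : l = ⟨m / 2 - 1, (hε1 k).1⟩ := Fin.ext hl
      subst hl'
      change c * tA _ _ * c⁻¹ = refl x₁ hx₁ * tA _ _ * (refl x₁ hx₁)⁻¹ at heq
      have hp := hodd k ((refl x₁ hx₁)⁻¹ * c) (by
        rw [show ((refl x₁ hx₁)⁻¹ * c) * tA (m / 2 - 1) (hε1 k).1 * ((refl x₁ hx₁)⁻¹ * c)⁻¹ =
          (refl x₁ hx₁)⁻¹ * (c * tA (m / 2 - 1) (hε1 k).1 * c⁻¹) * refl x₁ hx₁ by group, heq]
        group)
      rw [parity_mul' hQ hG, parity_inv' hQ hG, parity_refl hQ,
        (mem_commutator_iff' hQ hG hV c).1 hc] at hp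
      exact absurd hp (by decide)
    rcases i with i | i <;> rcases j with j | j
    · simp only [r₀, Sum.elim_inl, Sum.elim_inr, hA2] at h1
      exact congrArg (Sum.inr ∘ Sum.inl) (Fin.ext (by omega))
    · refine absurd hcij (hno j i ?_ c hc)
      rw [(inv_of_isConj (hext j)).1] at h1
      simp only [r₀, Sum.elim_inl, Sum.elim_inr, hA2] at h1
      omega
    · refine absurd ?_ (hno i j ?_ c⁻¹ (inv_mem hc))
      · rw [← hcij]; group
      · rw [(inv_of_isConj (hext i)).1] at h1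
        simp only [r₀, Sum.elim_inl, Sum.elim_inr, hA2] at h1
        omega
    · have : i = j := Fin.ext (by rcases hε with ⟨rfl, -, -⟩ | ⟨rfl, -⟩ <;> omega)
      rw [this]
  · intro g hg
    rw [← Subgroup.orderOf_coe, orderOf_two_iff_rk] at hg
    obtain ⟨hg2, hg1⟩ := hg
    obtain ⟨k, hk⟩ := (hmem _).1 g.2
    have hle := two_rk_le hg2
    have hfix : ¬ (rk (g : orth Q) = m ∧ Alt (g : orth Q)) → ∀ i, IsConj (g : orth Q) (r₀ i) →
        IsConj g (r i) := by
      intro hns i hi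
      obtain ⟨v, hv, hQv⟩ := exists_fixed_nonsingular hQ hg2 hdim hns
      obtain ⟨c, hc, h⟩ := exists_commutator_conj' hQ hG hV hv hQv hi
      exact hsub.2 ⟨c, hc, h⟩
    by_cases ha : Alt (g : orth Q)
    · have := hbound _ hg2 ha
      have hc0 : IsConj (g : orth Q) (tA (k - 1) (by omega)) :=
        isConj_of_inv hQ hg2 (hA1 _ _) (by rw [hA2]; omega) ⟨fun _ => hA3 _ _, fun _ => ha⟩
      by_cases hm : rk (g : orth Q) = m
      · obtain ⟨hε0, -⟩ | ⟨-, hne⟩ := hε
        · have hk0 : (0 : ℕ) < ε := by omega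
          have he' : tA (k - 1) (by omega) = tA (m / 2 - 1) (hε1 ⟨0, hk0⟩).1 := by
            congr 1; omega
          rw [he'] at hc0
          rcases hsplit ⟨0, hk0⟩ hc0.symm with h | h
          · exact ⟨.inr (.inl ⟨m / 2 - 1, (hε1 ⟨0, hk0⟩).1⟩), hsub.2 h⟩
          · exact ⟨.inr (.inr ⟨0, hk0⟩), hsub.2 h⟩
        · exact absurd hm (hne _ hg2 ha)
      · exact ⟨.inr (.inl ⟨k - 1, by omega⟩), hfix (fun h => hm h.1) _ hc0⟩
    · refine ⟨.inl ⟨k - 1, by omega⟩, hfix (fun h => ha h.2) _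
        (isConj_of_inv hQ hg2 (hN1 _ _) ?_ ⟨fun h => absurd h ha, fun h => absurd h (hN3 _ _)⟩)⟩
      simp only [r₀, Sum.elim_inl, hN2]
      omega

end count

end CfsgLib.CharTwoClasses
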