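import Cfsg.Agent.CharTwoClasses.Basic
import Cfsg.Agent.CharTwo.SympInvolution

/-!
# Representatives of involution classes for the standard forms in characteristic two
-/

set_option autoImplicit false
set_option linter.unusedSectionVars false

namespace CfsgLib.CharTwoClasses

open Module QuadraticMap CfsgLib.Dickson

variable {F : Type*} [Field F] [CharP F 2] [Finite F]

theorem dim_plus (m : ℕ) : finrank F (Fin m ⊕ Fin m → F) = 2 * m := by
  rw [Module.finrank_fintype_fun_eq_card]; simp; omega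

theorem polar_plusForm (m : ℕ) (u v : Fin m ⊕ Fin m → F) : polar (⇑(plusForm m F)) u v =
    ∑ i, (u (.inl i) * v (.inr i) + v (.inl i) * u (.inr i)) := by
  simp only [polar, plusForm_coe, Cfsg.quadFormPlus, Pi.add_apply, ← Finset.sum_sub_distrib]
  exact Finset.sum_congr rfl fun i _ => by ring

theorem plus_nonalt (m : ℕ) : ∀ k < m, ∃ t : orth (plusForm m F), t * t = 1 ∧ rk t = k + 1 ∧ ¬ Alt t := by
  intro k hk
  let x : Fin (k + 1) → (Fin m ⊕ Fin m → F) := fun i j =>
    Sum.elim (fun a : Fin m => if (a : ℕ) = i then 1 else 0) (fun a : Fin m => if (a : ℕ) = i then 1 else 0) j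
  have hx : LinearIndependent F x := by
    rw [Fintype.linearIndependent_iff]
    intro c hc i
    have := congrFun hc (.inl ⟨i, by omega⟩)
    simpa [x, Finset.sum_apply, Fin.val_inj] using this
  obtain ⟨t, h1, h2, h3⟩ := exists_involution (plusForm_nondegenerate m) id (fun _ => rfl) x hx
    (fun i j => by
      rw [polar_plusForm]
      refine Finset.sum_eq_zero fun a _ => ?_
      simp only [x, Sum.elim_inl, Sum.elim_inr]
      rw [mul_comm (if (a : ℕ) = j then (1 : F) else 0), CharTwo.add_self_eq_zero])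
    (fun i => by
      simp only [id, if_true, plusForm_coe, Cfsg.quadFormPlus, x, Sum.elim_inl, Sum.elim_inr]
      rw [Finset.sum_eq_single (⟨i, by omega⟩ : Fin m)]
      · simp
      · intro b _ hb
        rw [if_neg (fun e => hb (Fin.ext e)), mul_zero]
      · simp)
  exact ⟨t, h1, by simpa using h2, fun h => (h3.1 h) 0 rfl⟩

theorem plus_alt (m : ℕ) : ∀ k < m / 2, ∃ t : orth (plusForm m F),
    t * t = 1 ∧ rk t = 2 * (k + 1) ∧ Alt t := by
  intro k hk
  let g : Fin 2 × Fin (k + 1) → ℕ := fun p => 2 * (p.2 : ℕ) + (p.1 : ℕ)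
  have hg : Function.Injective g := fun p p' h => by
    simp only [g] at h
    exact Prod.ext (Fin.ext (by omega)) (Fin.ext (by omega))
  let x : Fin 2 × Fin (k + 1) → (Fin m ⊕ Fin m → F) := fun p j =>
    Sum.elim (fun a : Fin m => if (a : ℕ) = g p then 1 else 0) (fun _ => 0) j
  have hx : LinearIndependent F x := by
    rw [Fintype.linearIndependent_iff]
    intro c hc p
    have := congrFun hc (.inl ⟨g p, by simp only [g]; omega⟩)
    simpa [x, Finset.sum_apply, hg.eq_iff] using this
  have hne : ∀ p : Fin 2 × Fin (k + 1), ((p.1.rev, p.2) : Fin 2 × Fin (k + 1)) ≠ p := fun p h => by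
    have : p.1.rev = p.1 := congrArg Prod.fst h
    revert this
    generalize p.1 = i
    revert i; decide
  obtain ⟨t, h1, h2, h3⟩ := exists_involution (plusForm_nondegenerate m) (fun p => (p.1.rev, p.2))
    (fun p => by simp) x hx
    (fun i j => by rw [polar_plusForm]; exact Finset.sum_eq_zero fun a _ => by simp [x])
    (fun p => by rw [if_neg (hne p)]; simp [x, plusForm_coe, Cfsg.quadFormPlus])
  exact ⟨t, h1, by rw [h2]; simp, h3.2 hne⟩

theorem plus_bound (m : ℕ) (t : orth (plusForm m F)) (ht : t * t = 1) : rk t / 2 ≤ m / 2 := by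
  have := two_rk_le ht
  rw [dim_plus] at this
  omega

variable {k : ℕ} {c d : F}

theorem polar_minusForm (u v : (Fin k ⊕ Fin k) ⊕ Fin 2 → F) : polar (⇑(minusForm k F c d)) u v =
    (∑ i, (u (.inl (.inl i)) * v (.inl (.inr i)) + v (.inl (.inl i)) * u (.inl (.inr i)))) +
      c * (u (.inr 0) * v (.inr 1) + v (.inr 0) * u (.inr 1)) := by
  simp only [polar, minusForm_coe, Cfsg.quadFormMinus, Pi.add_apply, add_mul, mul_add,
    Finset.sum_add_distrib]
  linear_combination (u (.inr 0) * v (.inr 0) + d * (u (.inr 1) * v (.inr 1))) *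
    (CharTwo.two_eq_zero : (2 : F) = 0)

variable (hcd : ∀ z₁ z₂ : F, z₁ ^ 2 + c * z₁ * z₂ + d * z₂ ^ 2 = 0 → z₁ = 0 ∧ z₂ = 0)

theorem dim_minus (k : ℕ) : finrank F ((Fin k ⊕ Fin k) ⊕ Fin 2 → F) = 2 * (k + 1) := by
  rw [Module.finrank_fintype_fun_eq_card]; simp; omega

include hcd in
theorem minus_nonalt : ∀ l < k + 1, ∃ t : orth (minusForm k F c d),
    t * t = 1 ∧ rk t = l + 1 ∧ ¬ Alt t := by
  intro l hl
  let x : Fin (l + 1) → ((Fin k ⊕ Fin k) ⊕ Fin 2 → F) := fun i j =>
    Sum.elim (Sum.elim (fun a : Fin k => if (a : ℕ) = i then 1 else 0)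
      (fun a : Fin k => if (a : ℕ) = i then 1 else 0))
      (fun b => if b = 0 ∧ (i : ℕ) = k then 1 else 0) j
  have hx : LinearIndependent F x := by
    rw [Fintype.linearIndependent_iff]
    intro a ha i
    rcases Nat.lt_or_ge (i : ℕ) k with h | h
    · have := congrFun ha (.inl (.inl ⟨i, h⟩))
      simpa [x, Finset.sum_apply, Fin.val_inj] using this
    · have hi : (i : ℕ) = k := by omega
      have := congrFun ha (.inr 0)
      have e : ∀ j : Fin (l + 1), ((j : ℕ) = k) = (j = i) := fun j => by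
        rw [← hi, Fin.val_inj]
      simpa [x, Finset.sum_apply, e] using this
  obtain ⟨t, h1, h2, h3⟩ := exists_involution (minusForm_nondegenerate k hcd) id (fun _ => rfl) x hx
    (fun i j => by
      rw [polar_minusForm]
      simp only [x, Sum.elim_inl, Sum.elim_inr]
      rw [Finset.sum_eq_zero fun a _ => by
        rw [mul_comm (if (a : ℕ) = j then (1 : F) else 0), CharTwo.add_self_eq_zero]]
      simp)
    (fun i => by
      simp only [id, if_true, minusForm_coe, Cfsg.quadFormMinus, x, Sum.elim_inl, Sum.elim_inr]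
      rcases Nat.lt_or_ge (i : ℕ) k with h | h
      · rw [Finset.sum_eq_single (⟨i, h⟩ : Fin k)]
        · simp [Nat.ne_of_lt h]
        · intro b _ hb
          rw [if_neg (fun e => hb (Fin.ext e)), mul_zero]
        · simp
      · have hi : (i : ℕ) = k := by omega
        rw [Finset.sum_eq_zero fun b _ => by rw [if_neg (by omega), mul_zero]]
        simp [hi])
  exact ⟨t, h1, by simpa using h2, fun h => (h3.1 h) 0 rfl⟩

include hcd in
theorem minus_alt : ∀ l < k / 2, ∃ t : orth (minusForm k F c d),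
    t * t = 1 ∧ rk t = 2 * (l + 1) ∧ Alt t := by
  intro l hl
  let g : Fin 2 × Fin (l + 1) → ℕ := fun p => 2 * (p.2 : ℕ) + (p.1 : ℕ)
  have hg : Function.Injective g := fun p p' h => by
    simp only [g] at h
    exact Prod.ext (Fin.ext (by omega)) (Fin.ext (by omega))
  let x : Fin 2 × Fin (l + 1) → ((Fin k ⊕ Fin k) ⊕ Fin 2 → F) := fun p j =>
    Sum.elim (Sum.elim (fun a : Fin k => if (a : ℕ) = g p then 1 else 0) (fun _ => 0)) (fun _ => 0) j
  have hx : LinearIndependent F x := by
    rw [Fintype.linearIndependent_iff]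
    intro a ha p
    have := congrFun ha (.inl (.inl ⟨g p, by simp only [g]; omega⟩))
    simpa [x, Finset.sum_apply, hg.eq_iff] using this
  have hne : ∀ p : Fin 2 × Fin (l + 1), ((p.1.rev, p.2) : Fin 2 × Fin (l + 1)) ≠ p := fun p h => by
    have : p.1.rev = p.1 := congrArg Prod.fst h
    revert this
    generalize p.1 = i
    revert i; decide
  obtain ⟨t, h1, h2, h3⟩ := exists_involution (minusForm_nondegenerate k hcd) (fun p => (p.1.rev, p.2))
    (fun p => by simp) x hx
    (fun i j => by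
      rw [polar_minusForm, Finset.sum_eq_zero fun a _ => by simp [x]]
      simp [x])
    (fun p => by rw [if_neg (hne p)]; simp [x, minusForm_coe, Cfsg.quadFormMinus])
  exact ⟨t, h1, by rw [h2]; simp, h3.2 hne⟩

include hcd in
theorem minus_bound (t : orth (minusForm k F c d)) (ha : Alt t) : rk t ≤ k :=
  minus_no_lag k hcd _ fun v hv => by obtain ⟨u, rfl⟩ := hv; exact ha u

theorem commutator_equiv {ι : Type} [Fintype ι] [DecidableEq ι] (Q : QuadraticForm F (ι → F)) :
    Nonempty (↥(Cfsg.Omega F ⇑Q) ≃* ↥(commutator (orth Q))) := by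
  have hmap : (commutator ↥(Cfsg.isometryGroup F ⇑Q)).map (toOrth Q).toMonoidHom = commutator (orth Q) := by
    rw [commutator_def, commutator_def, Subgroup.map_commutator,
      Subgroup.map_top_of_surjective _ (toOrth Q).surjective]
  exact ⟨((toOrth Q).subgroupMap (commutator ↥(Cfsg.isometryGroup F ⇑Q))).trans
    (MulEquiv.subgroupCongr hmap)⟩

theorem natCard_plus (m : ℕ) :
    Nat.card {C : ConjClasses ↥(Cfsg.isometryGroup F (Cfsg.quadFormPlus m F)) //
      ∃ g, ConjClasses.mk g = C ∧ orderOf g = 2} = m + m / 2 := by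
  rw [← plusForm_coe]
  exact card_orth (plusForm_nondegenerate m) (dim_plus m) (plus_nonalt m) (plus_alt m)
    (fun t ht _ => plus_bound m t ht) (toOrth _)

include hcd in
theorem natCard_minus :
    Nat.card {C : ConjClasses ↥(Cfsg.isometryGroup F (Cfsg.quadFormMinus k F c d)) //
      ∃ g, ConjClasses.mk g = C ∧ orderOf g = 2} = k + 1 + k / 2 := by
  rw [← minusForm_coe]
  exact card_orth (minusForm_nondegenerate k hcd) (dim_minus k) (minus_nonalt hcd) (minus_alt hcd)
    (fun t _ ha => Nat.div_le_div_right (minus_bound hcd t ha)) (toOrth _)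

theorem natCard_omega_plus {m : ℕ} (hm : 1 ≤ m) (h : (∃ e : F, e ≠ 0 ∧ e ≠ 1) ∨ m ≠ 2) :
    Nat.card {C : ConjClasses ↥(Cfsg.Omega F (Cfsg.quadFormPlus m F)) //
      ∃ g, ConjClasses.mk g = C ∧ orderOf g = 2} = 2 * (m / 2) + (if Even m then 1 else 0) := by
  rw [← plusForm_coe]
  obtain ⟨e⟩ := commutator_equiv (plusForm m F)
  have hG : ReflGen (plusForm m F) := by
    rcases h with h | h
    · exact Or.inr (Or.inl h)
    rcases Nat.lt_or_ge m 3 with h3 | h3
    · refine Or.inr (Or.inr fun W hW => ?_)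
      have := finrank_singular_le (plusForm_nondegenerate m) W hW
      rw [dim_plus] at this
      omega
    · exact Or.inl (by rw [dim_plus]; omega)
  rw [card_omega (plusForm_nondegenerate m) (dim_plus m) (plus_nonalt m) (plus_alt m)
    (fun t ht _ => plus_bound m t ht) hG hm (ε := if Even m then 1 else 0) ?_ e]
  · omega
  · by_cases hev : Even m
    · rw [if_pos hev]; exact Or.inl ⟨rfl, hev, rfl⟩
    · rw [if_neg hev]
      exact Or.inr ⟨rfl, fun t ht ha e => hev (e ▸ even_rk (plusForm_nondegenerate m) ht ha)⟩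

include hcd in
theorem natCard_omega_minus :
    Nat.card {C : ConjClasses ↥(Cfsg.Omega F (Cfsg.quadFormMinus k F c d)) //
      ∃ g, ConjClasses.mk g = C ∧ orderOf g = 2} = (k + 1) / 2 + k / 2 := by
  rw [← minusForm_coe]
  obtain ⟨e⟩ := commutator_equiv (minusForm k F c d)
  have hG : ReflGen (minusForm k F c d) := by
    rcases Nat.lt_or_ge k 2 with h2 | h2
    · refine Or.inr (Or.inr fun W hW => ?_)
      have := minus_no_lag k hcd W hW
      omega
    · exact Or.inl (by rw [dim_minus]; omega)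
  exact (card_omega (minusForm_nondegenerate k hcd) (dim_minus k) (minus_nonalt hcd) (minus_alt hcd)
    (fun t _ ha => Nat.div_le_div_right (minus_bound hcd t ha)) hG (by omega) (ε := 0)
    (Or.inr ⟨rfl, fun t _ ha => by have := minus_bound hcd t ha; omega⟩) e).trans (by omega)

section symp

open Matrix CfsgLib.CharTwo

variable {m : ℕ}

theorem sympForm_eq_polar (u v : Fin m ⊕ Fin m → F) :
    Cfsg.sympForm m F u v = polar (⇑(plusForm m F)) u v := by
  rw [polar_plusForm]
  simp only [Cfsg.sympForm, dotProduct, Matrix.mulVec, Matrix.J, Fintype.sum_sum_type,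
    Matrix.fromBlocks_apply₁₁, Matrix.fromBlocks_apply₁₂, Matrix.fromBlocks_apply₂₁,
    Matrix.fromBlocks_apply₂₂, Matrix.zero_apply, Matrix.neg_apply, CharTwo.neg_eq, Matrix.one_apply,
    zero_mul, Finset.sum_const_zero, add_zero, zero_add, ite_mul, one_mul, Finset.sum_ite_eq,
    Finset.mem_univ, if_true, ← Finset.sum_add_distrib]
  exact Finset.sum_congr rfl fun i _ => by ring

theorem natCard_symp [Fintype F] :
    Nat.card {C : ConjClasses ↥(Matrix.symplecticGroup (Fin m) F) //
      ∃ g : Matrix.symplecticGroup (Fin m) F, ConjClasses.mk g = C ∧ orderOf g = 2} = m + m / 2 := by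
  classical
  let T : ↥(Matrix.symplecticGroup (Fin m) F) → Matrix (Fin m ⊕ Fin m) (Fin m ⊕ Fin m) F := fun a => a
  let rkS : ↥(Matrix.symplecticGroup (Fin m) F) → ℕ := fun a => (T a - 1).rank
  let AltS : ↥(Matrix.symplecticGroup (Fin m) F) → Prop :=
    fun a => ∀ v, Cfsg.sympForm m F v (T a *ᵥ v) = 0
  have hpres : ∀ (t : ↥(Cfsg.isometryGroup F ⇑(plusForm m F))) u v,
      sympBil m F (((t : GL (Fin m ⊕ Fin m) F) : Matrix (Fin m ⊕ Fin m) (Fin m ⊕ Fin m) F) *ᵥ u) (((t : GL (Fin m ⊕ Fin m) F) : Matrix (Fin m ⊕ Fin m) (Fin m ⊕ Fin m) F) *ᵥ v) =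
        sympBil m F u v := fun t u v => by
    simp only [sympBil_apply, sympForm_eq_polar]
    exact polar_map (toOrth _ t) u v
  let ψ : ↥(Cfsg.isometryGroup F ⇑(plusForm m F)) →* ↥(Matrix.symplecticGroup (Fin m) F) :=
    { toFun := fun t => ⟨((t : GL (Fin m ⊕ Fin m) F) : Matrix (Fin m ⊕ Fin m) (Fin m ⊕ Fin m) F), mem_symplectic_of_preserved _ (hpres t)⟩
      map_one' := rfl
      map_mul' := fun _ _ => rfl }
  let φ : ↥(orth (plusForm m F)) → ↥(Matrix.symplecticGroup (Fin m) F) := fun t => ψ ((toOrth _).symm t)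
  have hT : ∀ t v, T (φ t) *ᵥ v = (t : (Fin m ⊕ Fin m → F) ≃ₗ[F] (Fin m ⊕ Fin m → F)) v := fun t v => by
    conv_rhs => rw [← (toOrth (plusForm m F)).apply_symm_apply t]
    rfl
  have hrk : ∀ t, rkS (φ t) = rk t := fun t => by
    show ((((((toOrth _).symm t) : ↥(Cfsg.isometryGroup F ⇑(plusForm m F))) : GL (Fin m ⊕ Fin m) F) :
      Matrix (Fin m ⊕ Fin m) (Fin m ⊕ Fin m) F) - 1).rank = _
    rw [rank_eq_finrank_disp, MulEquiv.apply_symm_apply]
    rfl
  have halt : ∀ t, AltS (φ t) ↔ Alt t := fun t => forall_congr' fun v => by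
    rw [hT, sympForm_eq_polar, map_disp, disp_apply, QuadraticMap.polar_add_right, polar_self_zero,
      add_zero]
  have hmul : ∀ t, t * t = 1 → φ t * φ t = 1 := fun t ht => by
    simp only [φ, ← map_mul, ht, map_one]
  have hord : ∀ t, t * t = 1 → 1 ≤ rk t → orderOf (φ t) = 2 := fun t ht h1 => by
    refine orderOf_eq_two_iff.2 ⟨hmul t ht, fun h => ?_⟩
    have h0 : rkS (φ t) = 0 := by
      show (T (φ t) - 1).rank = 0
      rw [show T (φ t) = 1 from congrArg Subtype.val h, sub_self, Matrix.rank_zero]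
    rw [hrk] at h0
    omega
  have hinv : ∀ a b, IsConj a b → rkS a = rkS b ∧ (AltS a ↔ AltS b) := by
    intro a b h
    obtain ⟨c, hc⟩ := isConj_iff.1 h
    have hcb : T c * T a = T b * T c := congrArg Subtype.val (mul_inv_eq_iff_eq_mul.1 hc)
    have hdet : IsUnit (T c).det := SymplecticGroup.symplectic_det c.2
    refine ⟨?_, ?_⟩
    · have he : T c * (T a - 1) = (T b - 1) * T c := by rw [mul_sub, sub_mul, mul_one, one_mul, hcb]
      show (T a - 1).rank = (T b - 1).rank
      rw [← Matrix.rank_mul_eq_right_of_isUnit_det _ (T a - 1) hdet, he,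
        Matrix.rank_mul_eq_left_of_isUnit_det _ _ hdet]
    · have key : ∀ v, Cfsg.sympForm m F (T c *ᵥ v) (T b *ᵥ (T c *ᵥ v)) =
          Cfsg.sympForm m F v (T a *ᵥ v) := fun v => by
        rw [Matrix.mulVec_mulVec, ← hcb, ← Matrix.mulVec_mulVec, ← sympBil_apply, ← sympBil_apply]
        exact sympBil_preserved c _ _
      refine ⟨fun ha v => ?_, fun ha v => (key v).symm.trans (ha _)⟩
      obtain ⟨v, rfl⟩ := (Matrix.mulVec_surjective_iff_isUnit.2 ((Matrix.isUnit_iff_isUnit_det _).2 hdet)) v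
      exact (key v).trans (ha v)
  choose tN hN1 hN2 hN3 using plus_nonalt (F := F) m
  choose tA hA1 hA2 hA3 using plus_alt (F := F) m
  let r : Fin m ⊕ Fin (m / 2) → ↥(Matrix.symplecticGroup (Fin m) F) :=
    Sum.elim (fun k => φ (tN k k.2)) (fun k => φ (tA k k.2))
  rw [natCard_classes (MulEquiv.refl _) r ?_ ?_ ?_]
  · simp
  · rintro (k | k)
    · exact hord _ (hN1 _ _) (by rw [hN2]; omega)
    · exact hord _ (hA1 _ _) (by rw [hA2]; omega)
  · intro i j h
    obtain ⟨h1, h2⟩ := hinv _ _ h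
    rcases i with i | i <;> rcases j with j | j <;> simp only [r, Sum.elim_inl, Sum.elim_inr, hrk, halt] at h1 h2
    · rw [hN2, hN2] at h1; exact congrArg Sum.inl (Fin.ext (by omega))
    · exact absurd (h2.2 (hA3 _ _)) (hN3 _ _)
    · exact absurd (h2.1 (hA3 _ _)) (hN3 _ _)
    · rw [hA2, hA2] at h1; exact congrArg Sum.inr (Fin.ext (by omega))
  · intro a ha
    obtain ⟨ha2, ha1⟩ := orderOf_eq_two_iff.1 ha
    obtain ⟨hsa, B, hB, hBs, hBn, hBa⟩ :=
      CfsgLib.CharTwo.exists_induced _ (sympBil_preserved a) (congrArg Subtype.val ha2)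
    have hker := LinearMap.finrank_range_add_finrank_ker (T a - 1).mulVecLin
    have hle : LinearMap.range (T a - 1).mulVecLin ≤ LinearMap.ker (T a - 1).mulVecLin := by
      rintro _ ⟨u, rfl⟩
      rw [LinearMap.mem_ker, Matrix.mulVecLin_apply, Matrix.mulVecLin_apply, Matrix.mulVec_mulVec]
      have h0 : T a * T a = 1 := congrArg Subtype.val ha2
      have : (T a - 1) * (T a - 1) = 0 := by
        rw [sub_mul, mul_sub, h0, one_mul, mul_one]
        ext i j
        simp only [Matrix.sub_apply, Matrix.zero_apply, CharTwo.sub_eq_add]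
        linear_combination CharTwo.add_self_eq_zero ((1 : Matrix (Fin m ⊕ Fin m) (Fin m ⊕ Fin m) F) i j) +
          CharTwo.add_self_eq_zero (T a i j)
      rw [this, Matrix.zero_mulVec]
    have hmono := Submodule.finrank_mono hle
    rw [dim_plus] at hker
    have hpos : 1 ≤ rkS a := by
      rw [Nat.one_le_iff_ne_zero]
      intro h
      apply ha1
      have h0 : (T a - 1).mulVecLin = 0 := LinearMap.range_eq_bot.1 (Submodule.finrank_eq_zero.1 h)
      exact Subtype.ext (sub_eq_zero.1 (Matrix.mulVec_injective (funext fun v => by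
        rw [Matrix.zero_mulVec]; exact LinearMap.congr_fun h0 v)))
    have hrS : rkS a = finrank F (LinearMap.range (T a - 1).mulVecLin) := rfl
    by_cases hal : AltS a
    · obtain ⟨k, hk⟩ : Even (rkS a) := CfsgLib.CharTwo.even_finrank_of_isAlt _ B rfl (hBa.2 hal) hBn
      refine ⟨.inr ⟨k - 1, by omega⟩, exists_symplectic_conj a _ ha2 (hmul _ (hA1 _ _)) ?_
        ⟨fun _ => (halt _).2 (hA3 _ _), fun _ => hal⟩⟩
      show rkS a = rkS (φ _)
      rw [hrk, hA2]
      show rkS a = 2 * (k - 1 + 1)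
      omega
    · refine ⟨.inl ⟨rkS a - 1, by omega⟩, exists_symplectic_conj a _ ha2 (hmul _ (hN1 _ _)) ?_
        ⟨fun h => absurd h hal, fun h => absurd ((halt _).1 h) (hN3 _ _)⟩⟩
      show rkS a = rkS (φ _)
      rw [hrk, hN2]
      show rkS a = rkS a - 1 + 1
      omega

end symp

end CfsgLib.CharTwoClasses
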